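import Groth.Agent.LeadAmpDesc.Main
import Groth.Agent.H11Ample.Tensor

/-!
# Ampleness descends along faithfully flat morphisms of affine schemes
-/

set_option autoImplicit false
set_option linter.style.haveILetI false

universe u

open AlgebraicGeometry CategoryTheory CategoryTheory.Limits Opposite
open Groth.Agent.LeadBC

noncomputable section

namespace Groth.Agent.LeadAmpDesc

variable {X X' Y Y' : Scheme.{u}}

/-- Ampleness descends along the base change by a faithfully flat morphism of affine schemes. -/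
theorem isAmple_descends' [IsAffine Y] [IsAffine Y'] {p : X' ⟶ X} {f' : X' ⟶ Y'} {f : X ⟶ Y} {g : Y' ⟶ Y}
    (hsq : IsPullback p f' f g) [QuasiCompact f] [Flat g] [Surjective g] {L : X.Modules}
    (hL : PicF.IsInvertible L) (hA : CohB1.IsAmple ((Scheme.Modules.pullback p).obj L)) : CohB1.IsAmple L := by
  letI : Algebra Γ(Y, ⊤) Γ(Y', ⊤) := g.appTop.hom.toAlgebra
  letI : X.Over (Spec (CommRingCat.of Γ(Y, ⊤))) := ⟨f ≫ Y.isoSpec.hom⟩
  letI : X'.Over (Spec (CommRingCat.of Γ(Y', ⊤))) := ⟨f' ≫ Y'.isoSpec.hom⟩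
  haveI : Surjective p := MorphismProperty.of_isPullback hsq.flip inferInstance
  haveI : Module.Flat Γ(Y, ⊤) Γ(Y', ⊤) := by
    have h : Flat g := inferInstance
    rw [HasRingHomProperty.iff_of_isAffine (P := @Flat)] at h
    exact h
  haveI : CompactSpace X := QuasiCompact.compactSpace_of_compactSpace f
  have hsq' : IsPullback p (X' ↘ Spec (CommRingCat.of Γ(Y', ⊤))) (X ↘ Spec (CommRingCat.of Γ(Y, ⊤)))
      (Spec.map (CommRingCat.ofHom (algebraMap Γ(Y, ⊤) Γ(Y', ⊤)))) :=
    hsq.of_iso (Iso.refl _) (Iso.refl _) Y'.isoSpec Y.isoSpec (by simp) (by simp; rfl) (by simp; rfl)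
      (by simp [Scheme.isoSpec_hom_naturality, RingHom.algebraMap_toAlgebra])
  exact isAmple_descends hsq' hL hA

end Groth.Agent.LeadAmpDesc
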