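import Groth.Agent.LeadAmpDesc.Main
import Groth.Agent.H17.ConsPairExists
import Groth.Agent.H12Pic.InvertibleStage
import Groth.Agent.H12AlgSp.UnivInj
import Groth.Agent.H7Lim.AmpleDescent
import Groth.Agent.S4438
import Groth.Agent.S9716
import Mathlib.RingTheory.Jacobson.Ring

/-!
# The existence of an ample invertible module descends along field extensions
-/

set_option autoImplicit false
set_option linter.style.haveILetI false
set_option backward.isDefEq.respectTransparency false

universe u

open AlgebraicGeometry CategoryTheory CategoryTheory.Limits Opposite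

noncomputable section

namespace Groth.Agent.LeadAmpDesc

variable {k : Type u} [Field k] {X : Scheme.{u}} (p : X ⟶ Spec (CommRingCat.of k))
  (K : Type u) [Field K] [Algebra k K]

local notation "bcK" => pullback p (Spec.map (CommRingCat.ofHom (algebraMap k K)))

/-- An ample invertible module on `X_K` gives one on `X_{k'}` for a finite extension `k'` of `k`. -/
theorem exists_finite_ample [CompactSpace X] [QuasiSeparatedSpace X] {L' : (bcK).Modules} (hL' : CohB1.IsAmple L') :
    ∃ (k' : Type u) (_ : Field k') (_ : Algebra k k'), Module.Finite k k' ∧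
      ∃ L : (pullback p (Spec.map (CommRingCat.ofHom (algebraMap k k')))).Modules, CohB1.IsAmple L := by
  haveI : QuasiCompact p := (quasiCompact_iff_compactSpace p).mpr inferInstance
  haveI : QuasiSeparated p := quasiSeparated_iff_quasiSeparatedSpace p |>.mpr inferInstance
  haveI : Nonempty (Finset K) := ⟨∅⟩
  let D := H17.ConsPair.specSystem k K
  let c := H17.ConsPair.specCone k K
  let i₀ : (Finset K)ᵒᵖ := Opposite.op ∅
  let st : D.obj i₀ ⟶ Spec (CommRingCat.of k) := (H17.ConsPair.specStr k K).app i₀
  have hst : c.π.app i₀ ≫ st = Spec.map (CommRingCat.ofHom (algebraMap k K)) := H17.ConsPair.specCone_str k K i₀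
  haveI : IsAffineHom st := isAffineHom_of_isAffine st
  let a : pullback p st ⟶ D.obj i₀ := pullback.snd p st
  haveI : CompactSpace ↥(pullback p st) := QuasiCompact.compactSpace_of_compactSpace (pullback.fst p st)
  haveI : QuasiSeparatedSpace ↥(pullback p st) := quasiSeparatedSpace_of_quasiSeparated (pullback.fst p st)
  haveI : ∀ {j l : Over i₀} (f : j ⟶ l), IsAffineHom ((H7Lim.pbDiagram D i₀ a).map f) := fun {j l} f =>
    H7Lim.isAffineHom_pbDiagram_map D i₀ a j l f
  let cc := H7Lim.pbCone D c i₀ a
  have hcc : IsLimit cc := H7Lim.isLimitPbCone D i₀ a (H17.ConsPair.isLimitSpecCone k K)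
  have hbig : IsPullback (pullback.fst a (c.π.app i₀) ≫ pullback.fst p st) (pullback.snd a (c.π.app i₀)) p
      (Spec.map (CommRingCat.ofHom (algebraMap k K))) :=
    hst ▸ (IsPullback.of_hasPullback a (c.π.app i₀)).paste_horiz (IsPullback.of_hasPullback p st)
  let e : cc.pt ≅ bcK := hbig.isoPullback
  have hM : CohB1.IsAmple ((Scheme.Modules.pullback e.hom).obj L') :=
    H11Ample.isAmple_pullback_of_isAffineHom e.hom hL'
  let k₀ : Over i₀ := Over.mk (𝟙 i₀)
  obtain ⟨j, -, L, hL, ⟨eL⟩⟩ := H12Pic.exists_invertible_stage hcc k₀ hM.1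
  obtain ⟨l, ψ, hl⟩ := H7Lim.AmpleDescent.exists_isAmple_stage hcc hL (H11Ample.isAmple_of_iso eL.symm hM)
  let sl : D.obj l.left ⟶ Spec (CommRingCat.of k) := (H17.ConsPair.specStr k K).app l.left
  have hs : D.map l.hom ≫ st = sl := ((H17.ConsPair.specStr k K).naturality l.hom).trans (Category.comp_id _)
  let A := Algebra.adjoin k (l.left.unop : Set K)
  haveI : Algebra.FiniteType k A := (Subalgebra.fg_iff_finiteType _).1 (Subalgebra.fg_adjoin_finset _)
  obtain ⟨m, hm⟩ := Ideal.exists_maximal A
  letI : Field (A ⧸ m) := Ideal.Quotient.field m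
  haveI : Module.Finite k (A ⧸ m) := finite_of_finite_type_of_isJacobsonRing k _
  refine ⟨A ⧸ m, inferInstance, inferInstance, inferInstance, ?_⟩
  let r : Spec (CommRingCat.of (A ⧸ m)) ⟶ D.obj l.left := Spec.map (CommRingCat.ofHom (Ideal.Quotient.mk m))
  haveI : IsAffineHom r := isAffineHom_of_isAffine r
  have hr : r ≫ sl = Spec.map (CommRingCat.ofHom (algebraMap k (A ⧸ m))) := by
    show Spec.map _ ≫ Spec.map _ = _
    rw [← Spec.map_comp]
    rfl
  have hPl : IsPullback (pullback.fst a (D.map l.hom) ≫ pullback.fst p st) (pullback.snd a (D.map l.hom)) p sl :=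
    hs ▸ (IsPullback.of_hasPullback a (D.map l.hom)).paste_horiz (IsPullback.of_hasPullback p st)
  let u := pullback.fst (pullback.snd a (D.map l.hom)) r
  haveI : IsAffineHom u := MorphismProperty.pullback_fst _ _ ‹IsAffineHom r›
  have hk' : IsPullback (u ≫ pullback.fst a (D.map l.hom) ≫ pullback.fst p st) _ p
      (Spec.map (CommRingCat.ofHom (algebraMap k (A ⧸ m)))) :=
    hr ▸ (IsPullback.of_hasPullback (pullback.snd a (D.map l.hom)) r).paste_horiz hPl
  exact ⟨_, H11Ample.isAmple_pullback_of_isAffineHom hk'.isoPullback.inv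
    (H11Ample.isAmple_pullback_of_isAffineHom u hl)⟩

/-- If `X_K` has an ample invertible module, so has `X`. -/
theorem exists_isAmple_of_fieldExt {L' : (bcK).Modules} (hL' : CohB1.IsAmple L') :
    ∃ L : X.Modules, CohB1.IsAmple L := by
  let t : Spec (CommRingCat.of K) ⟶ Spec (CommRingCat.of k) := Spec.map (CommRingCat.ofHom (algebraMap k K))
  haveI : Surjective t := H17.ConsProp.surjective_of_subsingleton t
  haveI : IsAffineHom t := isAffineHom_of_isAffine t
  haveI : Surjective (pullback.fst p t) := MorphismProperty.pullback_fst _ _ ‹Surjective t›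
  haveI : CompactSpace ↥(bcK) := H11Ample.compactSpace_of_isAmple hL'
  haveI : QuasiSeparatedSpace ↥(bcK) := H11Ample.quasiSeparatedSpace_of_isAmple hL'
  haveI : CompactSpace X := (pullback.fst p t).surjective.compactSpace (pullback.fst p t).continuous
  haveI : QuasiSeparatedSpace X := quasiSeparatedSpace_of_surjective (pullback.fst p t)
  obtain ⟨k', _, _, hfin, L, hL⟩ := exists_finite_ample p K hL'
  haveI := hfin
  haveI : QuasiCompact p := (quasiCompact_iff_compactSpace p).mpr inferInstance
  let t' : Spec (CommRingCat.of k') ⟶ Spec (CommRingCat.of k) := Spec.map (CommRingCat.ofHom (algebraMap k k'))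
  haveI : IsFinite t' := (IsFinite.SpecMap_iff _).2 (RingHom.finite_algebraMap.2 inferInstance)
  haveI : Flat t' := by
    rw [HasRingHomProperty.Spec_iff (P := @Flat)]
    show (algebraMap k k').Flat
    rw [RingHom.flat_algebraMap_iff]
    infer_instance
  haveI : Surjective t' := H17.ConsProp.surjective_of_subsingleton t'
  haveI : LocallyOfFinitePresentation t' := H12AlgSp.lfp_of_lft_of_isLocallyNoetherian t'
  let g := pullback.fst p t'
  haveI : IsFinite g := MorphismProperty.pullback_fst _ _ ‹IsFinite t'›
  haveI : Flat g := MorphismProperty.pullback_fst _ _ ‹Flat t'›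
  haveI : Surjective g := MorphismProperty.pullback_fst _ _ ‹Surjective t'›
  haveI : LocallyOfFinitePresentation g := MorphismProperty.pullback_fst _ _ ‹LocallyOfFinitePresentation t'›
  have hfree : FlatMod.IsFinLocFree ((Coh.push g).obj (Coh.structureModule (pullback p t'))) :=
    ((Groth.Agent.S9716.result g).2 ⟨inferInstance, inferInstance, inferInstance⟩).2
  obtain ⟨N, -, hN⟩ := (Groth.Agent.S4438.result p g hfree).2
    ⟨_, hL.1, H11Ample.isRelAmple_iff_isAmple_of_isAffine.2 hL⟩
  exact ⟨N, H11Ample.isRelAmple_iff_isAmple_of_isAffine.1 hN⟩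

end Groth.Agent.LeadAmpDesc
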