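import Groth.Agent.LeadAmpDesc.Sect
import Groth.Agent.H11Ample.RelComp
import Groth.Agent.H11Ample.Converse
import Groth.Agent.S2126
import Groth.Agent.H28Mero.Gen

/-!
# Ampleness descends along faithfully flat affine base changes
-/

set_option autoImplicit false
set_option linter.style.haveILetI false

universe u

open AlgebraicGeometry CategoryTheory CategoryTheory.Limits TopologicalSpace Opposite
open Groth.Agent.H11Tilde Groth.Agent.H11Ample Groth.Agent.LeadBC Groth.Agent.LeadFBC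

noncomputable section

namespace Groth.Agent.LeadAmpDesc

variable {X X' : Scheme.{u}}

theorem quasiSeparatedSpace_of_surjective (q : X' ⟶ X) [Surjective q] [QuasiCompact q] [QuasiSeparatedSpace X'] :
    QuasiSeparatedSpace X := by
  refine ⟨fun U V hUo hU hVo hV => ?_⟩
  have h := (QuasiSeparatedSpace.inter_isCompact _ _ (hUo.preimage q.continuous) (q.isCompact_preimage (U := ⟨U, hUo⟩) hU)
    (hVo.preimage q.continuous) (q.isCompact_preimage (U := ⟨V, hVo⟩) hV)).image q.continuous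
  rwa [← Set.preimage_inter, Set.image_preimage_eq _ q.surjective] at h

/-- The functions on `U` vanishing at the points of `U` outside `W`. -/
def outIdeal {U : X.Opens} (hU : IsAffineOpen U) (W : X.Opens) : Ideal Γ(X, U) :=
  ⨅ (z : U) (_ : z.1 ∉ W), (hU.primeIdealOf z).asIdeal

theorem mem_radical_map (q : X' ⟶ X) [IsAffineHom q] {U : X.Opens} (hU : IsAffineOpen U) (W : X.Opens)
    (c : Γ(X', q ⁻¹ᵁ U)) (hc : X'.basicOpen c ≤ q ⁻¹ᵁ W) :
    c ∈ ((outIdeal hU W).map (q.app U).hom).radical := by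
  rw [Ideal.radical_eq_sInf, Submodule.mem_sInf]
  rintro Q ⟨hQ, hQp⟩
  obtain ⟨y, hy⟩ := H29Blow.exists_primeIdealOf_eq (hU.preimage q) ⟨Q, hQp⟩
  by_contra hcQ
  have hyc : y.1 ∈ X'.basicOpen c := by
    refine (X'.mem_basicOpen c y.1 y.2).2 ?_
    by_contra hu
    have := (H29Blow.mem_primeIdealOf_iff (hU.preimage q) y c).2 hu
    rw [hy] at this
    exact hcQ this
  obtain ⟨f, hfW, hyf⟩ := hU.exists_basicOpen_le (V := W) ⟨q y.1, hc hyc⟩ y.2
  have hf : f ∈ outIdeal hU W := by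
    rw [outIdeal, Submodule.mem_iInf]
    intro z
    rw [Submodule.mem_iInf]
    intro hz
    exact (H29Blow.mem_primeIdealOf_iff hU z f).2 fun hu => hz (hfW ((X.mem_basicOpen f z.1 z.2).2 hu))
  have h1 := hQ (Ideal.mem_map_of_mem (q.app U).hom hf)
  have h2 : q.app U f ∈ ((hU.preimage q).primeIdealOf y).asIdeal := by rw [hy]; exact h1
  refine (H29Blow.mem_primeIdealOf_iff (hU.preimage q) y _).1 h2 ?_
  rw [← Scheme.Hom.germ_stalkMap_apply q U y.1 y.2 f]
  exact ((X.mem_basicOpen f (q y.1) y.2).1 hyf).map (q.stalkMap y.1).hom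

variable {A B : Type u} [CommRing A] [CommRing B] [Algebra A B]
  [X.Over (Spec (CommRingCat.of A))] [X'.Over (Spec (CommRingCat.of B))] {q : X' ⟶ X}

/-- Ampleness descends along a faithfully flat base change of affine bases. -/
theorem isAmple_descends (hsq : IsPullback q (X' ↘ Spec (CommRingCat.of B)) (X ↘ Spec (CommRingCat.of A))
    (Spec.map (CommRingCat.ofHom (algebraMap A B)))) [Module.Flat A B] [Surjective q] [CompactSpace X]
    {L : X.Modules} (hL : PicF.IsInvertible L) (hA : CohB1.IsAmple (qF q L)) : CohB1.IsAmple L := by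
  classical
  haveI := Groth.Agent.LeadFF.isAffineHom_fst hsq
  haveI := compactSpace_of_isAmple hA
  haveI := quasiSeparatedSpace_of_isAmple hA
  haveI := quasiSeparatedSpace_of_surjective q
  refine (Groth.Agent.S2126.result L hL).2 (Opens.isBasis_iff_nbhd.2 fun {W x} hx => ?_)
  obtain ⟨x', rfl⟩ := q.surjective x
  obtain ⟨k, s₀, hk, hxs, hsW, -⟩ := exists_affine_gen_le hA (U := q ⁻¹ᵁ W) (x := x') hx
  let M := CohB1.tensorPow L k
  have hM := isInvertible_tensorPow hL k
  obtain ⟨φ⟩ := exists_iso_pullback_tensorPow q hL k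
  let s : Γ(qF q M, ⊤) := φ.inv.app ⊤ s₀
  have hs : gen (qF q M) s = gen (CohB1.tensorPow (qF q L) k) s₀ := gen_iso φ.inv s₀
  have loc : ∀ y : X, ∃ (U : X.Opens) (e : Γ(M, U)), y ∈ U ∧ IsAffineOpen U ∧ IsGen M e := fun y => by
    obtain ⟨V, e, hy, he⟩ := exists_gen hM y
    obtain ⟨U, hU, hyU, hUV⟩ := exists_isAffineOpen_mem_and_subset (U := V) hy
    exact ⟨U, _, hyU, hU, he.res (W := U) hUV⟩
  choose U₀ e₀ hyU hU₀ he₀ using loc
  obtain ⟨T, hT⟩ := CompactSpace.elim_nhds_subcover (fun y => (U₀ y : Set X))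
    (fun y => (U₀ y).isOpen.mem_nhds (hyU y))
  let ι : Type u := {y // y ∈ T}
  let U : ι → X.Opens := fun i => U₀ i.1
  have hcov : ∀ y, ∃ i, y ∈ U i := fun y => by
    obtain ⟨z, hz, hyz⟩ := Set.mem_iUnion₂.1 (hT.ge (Set.mem_univ y))
    exact ⟨⟨z, hz⟩, hyz⟩
  let e : ∀ i, Γ(M, U i) := fun i => e₀ i.1
  let e' : ∀ i, Γ(qF q M, q ⁻¹ᵁ U i) := fun i => OmegaSh.pullSect q M (U i) (e i)
  have he' : ∀ i, IsGen (qF q M) (e' i) := fun i => IsGen.pullSect q (he₀ i.1)
  choose c hc using fun i => exists_coeff (he' i) ((qF q M).presheaf.map (homOfLE (le_top : q ⁻¹ᵁ U i ≤ ⊤)).op s)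
  choose n hn using fun i : ι => mem_radical_map q (hU₀ i.1) W (c i) fun y hy =>
    hsW (hs.le ((mem_gen_iff_mem_basicOpen (he' i) (hc i) (X'.basicOpen_le _ hy)).2 hy))
  let N := Finset.univ.sup n + 1
  let P := CohB1.tensorPow M N
  have hP := isInvertible_tensorPow hM N
  haveI : P.IsQuasicoherent := H28Mero.isQCoh_of_isInvertible hP
  obtain ⟨ψ⟩ := exists_iso_pullback_tensorPow q hM N
  let v : Γ(qF q P, ⊤) := ψ.inv.app ⊤ (spow s N)
  have hvgen : x' ∈ gen (qF q P) v := by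
    rw [show gen (qF q P) v = gen (CohB1.tensorPow (qF q M) N) (spow s N) from gen_iso ψ.inv (spow s N),
      gen_spow (isInvertible_pullback q hM) s N (Nat.succ_pos _), hs]
    exact hxs
  let I : ∀ i, Ideal Γ(X, U i) := fun i => outIdeal (hU₀ i.1) W
  have hmem := mem_span_pullSect A B hsq P (U := U) (I := I) (fun i => hU₀ i.1) hcov v fun i => by
    have h1 : (qF q P).presheaf.map (homOfLE (q.preimage_mono (le_top : U i ≤ ⊤))).op v =
        c i ^ N • ψ.inv.app _ (spow (e' i) N) := by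
      show (qF q P).presheaf.map _ (ψ.inv.app ⊤ (spow s N)) = _
      rw [← Scheme.Modules.Hom.app_smul, ← spow_smul, ← hc, ← spow_res]
      exact (app_map_apply ψ.inv _ _).symm
    rw [h1]
    exact Submodule.smul_mem_smul (Ideal.pow_mem_of_pow_mem _ (hn i)
      ((Finset.le_sup (Finset.mem_univ i)).trans (Nat.le_succ _))) Submodule.mem_top
  obtain ⟨i, hi⟩ := hcov (q x')
  let E := spow (e i) N
  have hE : IsGen P E := isGen_spow (he₀ i.1) N
  let E' : Γ(qF q P, q ⁻¹ᵁ U i) := OmegaSh.pullSect q P (U i) E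
  have hE' : IsGen (qF q P) E' := IsGen.pullSect q hE
  let res : Γ(qF q P, q ⁻¹ᵁ ⊤) → Γ(qF q P, q ⁻¹ᵁ U i) := fun w =>
    (qF q P).presheaf.map (homOfLE (q.preimage_mono (le_top : U i ≤ ⊤))).op w
  have main : ∃ t ∈ glob P U I, q x' ∈ gen P t := by
    by_contra hnot
    push Not at hnot
    suffices h : ∀ w : Γ(qF q P, q ⁻¹ᵁ ⊤), w ∈ Submodule.span Γ(X', q ⁻¹ᵁ ⊤) ((fun t => OmegaSh.pullSect q P ⊤ t) '' glob P U I) →
        ∃ a : Γ(X', q ⁻¹ᵁ U i), res w = a • E' ∧ ¬ IsUnit (X'.presheaf.germ _ x' hi a) by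
      obtain ⟨a, ha, hau⟩ := h v hmem
      exact hau ((X'.mem_basicOpen a x' hi).1 ((mem_gen_iff_mem_basicOpen hE' ha hi).1 hvgen))
    intro w hw
    induction hw using Submodule.span_induction with
    | mem y hy =>
      obtain ⟨t, ht, rfl⟩ := hy
      obtain ⟨a, ha⟩ := exists_coeff hE (P.presheaf.map (homOfLE (le_top : U i ≤ ⊤)).op t)
      refine ⟨q.app (U i) a, ?_, ?_⟩
      · show (qF q P).presheaf.map _ (OmegaSh.pullSect q P ⊤ t) = q.app (U i) a • OmegaSh.pullSect q P (U i) E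
        rw [← OmegaSh.pullSect_smul, ← ha]
        exact (H11Tilde.pullSect_res q P (le_top : U i ≤ ⊤) t).symm
      · intro hu
        rw [← Scheme.Hom.germ_stalkMap_apply q (U i) x' hi a] at hu
        exact hnot t ht ((mem_gen_iff_mem_basicOpen hE ha hi).2
          ((X.mem_basicOpen a (q x') hi).2 ((isUnit_map_iff (q.stalkMap x').hom _).1 hu)))
    | zero => exact ⟨0, by show (qF q P).presheaf.map _ 0 = _; rw [map_zero, zero_smul], by rw [map_zero]; exact not_isUnit_zero⟩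
    | add y z _ _ hy hz =>
      obtain ⟨a, ha, hau⟩ := hy
      obtain ⟨b, hb, hbu⟩ := hz
      refine ⟨a + b, ?_, ?_⟩
      · show (qF q P).presheaf.map _ (y + z) = _
        rw [map_add, add_smul]
        exact congrArg₂ (· + ·) ha hb
      · rw [map_add]
        exact IsLocalRing.nonunits_add hau hbu
    | smul r y _ hy =>
      obtain ⟨a, ha, hau⟩ := hy
      refine ⟨X'.presheaf.map (homOfLE (q.preimage_mono (le_top : U i ≤ ⊤))).op r * a, ?_, ?_⟩
      · show (qF q P).presheaf.map _ (r • y) = _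
        rw [Scheme.Modules.map_smul, mul_smul]
        exact congrArg _ ha
      · rw [map_mul]
        exact fun h => hau (isUnit_of_mul_isUnit_right h)
  obtain ⟨t, ht, hxt⟩ := main
  obtain ⟨χ, -⟩ := exists_iso_mul hL k N
  refine ⟨_, ⟨k * N - 1, homOfGlobal _ ((eqToHom (by rw [Nat.sub_add_cancel (Nat.mul_pos hk (Nat.succ_pos _))]) :
    CohB1.tensorPow L (k * N) ⟶ CohB1.tensorPow L (k * N - 1 + 1)).app ⊤ (χ.hom.app ⊤ t)), rfl⟩, ?_, ?_⟩
  · show q x' ∈ gen _ _
    rw [gen_iso, gen_iso]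
    exact hxt
  · show gen _ _ ≤ W
    rw [gen_iso, gen_iso]
    intro z hz
    obtain ⟨j, hj⟩ := hcov z
    by_contra hzW
    have hEj : IsGen P (spow (e j) N) := isGen_spow (he₀ j.1) N
    obtain ⟨a, ha⟩ := exists_coeff hEj (P.presheaf.map (homOfLE (le_top : U j ≤ ⊤)).op t)
    have haI : a ∈ I j := by
      obtain ⟨b, hb, hbI⟩ : ∃ b, P.presheaf.map (homOfLE (le_top : U j ≤ ⊤)).op t = b • spow (e j) N ∧ b ∈ I j := by
        refine Submodule.smul_induction_on (ht j) (fun r hr w _ => ?_) (fun y z hy hz => ?_)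
        · obtain ⟨d, hd⟩ := exists_coeff hEj w
          exact ⟨r * d, by rw [hd, smul_smul], Ideal.mul_mem_right _ _ hr⟩
        · obtain ⟨b, hb, hbI⟩ := hy
          obtain ⟨b', hb', hbI'⟩ := hz
          exact ⟨b + b', by rw [hb, hb', add_smul], add_mem hbI hbI'⟩
      have : a = b := (hEj.bijective le_rfl).1 (by
        beta_reduce
        rw [H10Coh.mres_self]
        exact ha.symm.trans hb)
      rw [this]
      exact hbI
    have hzP := (Submodule.mem_iInf _).1 ((Submodule.mem_iInf _).1 haI ⟨z, hj⟩) hzW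
    exact (H29Blow.mem_primeIdealOf_iff (hU₀ j.1) ⟨z, hj⟩ a).1 hzP
      ((X.mem_basicOpen a z hj).1 ((mem_gen_iff_mem_basicOpen hEj ha hj).1 hz))

end Groth.Agent.LeadAmpDesc
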