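import Groth.Agent.LeadAmpDesc.Affine
import Groth.Agent.H11Ample.RelAmple
import Groth.Agent.H11Ample.RelPullback

/-!
# Relative ampleness descends along fpqc covers
-/

set_option autoImplicit false
set_option linter.style.haveILetI false

universe u

open AlgebraicGeometry CategoryTheory CategoryTheory.Limits Opposite TopologicalSpace
open Groth.Agent.H11Ample Groth.Agent.LeadBC

noncomputable section

namespace Groth.Agent.LeadAmpDesc

variable {X S S' : Scheme.{u}} {f : X ⟶ S} {g : S' ⟶ S}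

theorem quasiCompact_descends [Surjective g] [QuasiCompact g] [QuasiCompact (pullback.snd f g)] : QuasiCompact f := by
  refine ⟨fun U hU hUc => ?_⟩
  haveI : Surjective (pullback.fst f g) :=
    MorphismProperty.of_isPullback (IsPullback.of_hasPullback f g).flip inferInstance
  have h := ((pullback.snd f g).isCompact_preimage (U := g ⁻¹ᵁ ⟨U, hU⟩)
    (g.isCompact_preimage (U := ⟨U, hU⟩) hUc)).image (pullback.fst f g).continuous
  have e : (pullback.snd f g) ⁻¹ᵁ (g ⁻¹ᵁ ⟨U, hU⟩) = (pullback.fst f g) ⁻¹ᵁ (f ⁻¹ᵁ ⟨U, hU⟩) := by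
    rw [← Scheme.Hom.comp_preimage, ← Scheme.Hom.comp_preimage, pullback.condition]
  rw [e] at h
  rwa [show (pullback.fst f g ⁻¹ᵁ (f ⁻¹ᵁ ⟨U, hU⟩) : Set _) = pullback.fst f g ⁻¹' (f ⁻¹' U) from rfl,
    Set.image_preimage_eq _ (pullback.fst f g).surjective] at h

/-- Relative ampleness descends along quasi-compact flat surjective morphisms. -/
theorem isRelAmple_descends [QuasiCompact g] [Flat g] [Surjective g] {L : X.Modules} (hL : PicF.IsInvertible L)
    (h : RelAmple.IsRelAmple (pullback.snd f g) ((Scheme.Modules.pullback (pullback.fst f g)).obj L)) :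
    RelAmple.IsRelAmple f L := by
  haveI := h.1
  haveI : QuasiCompact f := quasiCompact_descends (g := g)
  refine ⟨inferInstance, fun V => ?_⟩
  let W : Set S'.Opens := {U | IsAffineOpen U ∧ U ≤ g ⁻¹ᵁ V.1}
  obtain ⟨T, hTW, hT⟩ : ∃ T : Finset S'.Opens, (∀ U ∈ T, U ∈ W) ∧ (g ⁻¹ᵁ V.1 : Set S') ⊆ ⋃ U ∈ T, (U : Set S') := by
    classical
    obtain ⟨T, hT⟩ := (g.isCompact_preimage (U := V.1) V.2.isCompact).elim_finite_subcover
      (fun U : W => (U.1 : Set S')) (fun U => U.1.isOpen) fun z hz => by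
        obtain ⟨U, hU, hzU, hUV⟩ := exists_isAffineOpen_mem_and_subset (U := g ⁻¹ᵁ V.1) hz
        exact Set.mem_iUnion.2 ⟨⟨U, hU, hUV⟩, hzU⟩
    refine ⟨T.image Subtype.val, fun U hU => ?_, fun z hz => ?_⟩
    · obtain ⟨U, -, rfl⟩ := Finset.mem_image.1 hU
      exact U.2
    · obtain ⟨U, hU, hzU⟩ := Set.mem_iUnion₂.1 (hT hz)
      exact Set.mem_iUnion₂.2 ⟨U.1, Finset.mem_image_of_mem _ hU, hzU⟩
  haveI : ∀ U : {U // U ∈ T}, IsAffine U.1.toScheme := fun U => (hTW _ U.2).1
  let Y' : Scheme.{u} := ∐ fun U : {U // U ∈ T} => U.1.toScheme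
  let ρ : Y' ⟶ S' := Sigma.desc fun U => U.1.ι
  let π : Y' ⟶ V.1.toScheme := Sigma.desc fun U => g.resLE V.1 U.1 (hTW _ U.2).2
  have hπ : π ≫ V.1.ι = ρ ≫ g := Sigma.hom_ext _ _ fun U => by simp [π, ρ]
  haveI : Flat π := IsZariskiLocalAtSource.sigmaDesc (P := @Flat) fun U =>
    IsZariskiLocalAtSource.resLE (P := @Flat) _ inferInstance
  haveI : Surjective π := ⟨fun v => by
    obtain ⟨z, hz⟩ := g.surjective v.1
    obtain ⟨U, hU, hzU⟩ := Set.mem_iUnion₂.1 (hT (show g z ∈ V.1 from hz ▸ v.2))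
    refine ⟨(Sigma.ι (fun U : {U // U ∈ T} => U.1.toScheme) ⟨U, hU⟩) ⟨z, hzU⟩, ?_⟩
    apply Subtype.ext
    rw [← hz]
    show V.1.ι (π _) = _
    rw [← Scheme.Hom.comp_apply, ← Scheme.Hom.comp_apply]
    simp [π]⟩
  haveI : IsAffine V.1.toScheme := V.2
  have hA := isRelAmple_iff_isAmple_of_isAffine.1 (isRelAmple_baseChange (pullback.snd f g) ρ h)
  let a := pullback.fst (pullback.snd f g) ρ
  have hbig : IsPullback (a ≫ pullback.fst f g) (pullback.snd (pullback.snd f g) ρ) f (π ≫ V.1.ι) :=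
    hπ ▸ (IsPullback.of_hasPullback (pullback.snd f g) ρ).paste_horiz (IsPullback.of_hasPullback f g)
  have hsq := hbig.of_right' (isPullback_morphismRestrict f V.1).flip
  haveI : QuasiCompact (f ∣_ V.1) := IsZariskiLocalAtTarget.restrict (P := @QuasiCompact) inferInstance _
  let i := (f ⁻¹ᵁ V.1).ι
  let φ := (Scheme.Modules.restrictFunctorIsoPullback i).app L
  refine isAmple_of_iso φ.symm (isAmple_descends' hsq (isInvertible_pullback i hL) ?_)
  refine isAmple_of_iso ?_ hA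
  exact (Scheme.Modules.pullbackComp a (pullback.fst f g)).app L ≪≫
    (Scheme.Modules.pullbackCongr ((IsPullback.lift_fst _ _ _ _).symm)).app L ≪≫
    ((Scheme.Modules.pullbackComp _ i).app L).symm

end Groth.Agent.LeadAmpDesc
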