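import Groth.Agent.LeadFBC.BC

/-!
# Global sections with prescribed vanishing, after a flat base change
-/

set_option autoImplicit false
set_option linter.style.haveILetI false

universe u

open AlgebraicGeometry CategoryTheory CategoryTheory.Limits TopologicalSpace Opposite
open scoped TensorProduct

noncomputable section

namespace Groth.Agent.LeadAmpDesc

open Groth.Agent.LeadBC Groth.Agent.LeadFBC

variable (A B : Type u) [CommRing A] [CommRing B] [Algebra A B] {X X' : Scheme.{u}}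
  [X.Over (Spec (CommRingCat.of A))] [X'.Over (Spec (CommRingCat.of B))] {q : X' ⟶ X}
  (hsq : IsPullback q (X' ↘ Spec (CommRingCat.of B)) (X ↘ Spec (CommRingCat.of A))
    (Spec.map (CommRingCat.ofHom (algebraMap A B))))
  (F : X.Modules) [F.IsQuasicoherent]

theorem pullExt_tmul (V : X.Opens) (b : B) (x : sec A F V) :
    (pullExt A B hsq F V (b ⊗ₜ x) : Γ(qF q F, q ⁻¹ᵁ V)) =
      sc B (q ⁻¹ᵁ V) b • OmegaSh.pullSect q F V (x : Γ(F, V)) := by
  show sc B (q ⁻¹ᵁ V) b • pullRes F q le_rfl (x : Γ(F, V)) = _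
  exact congrArg (fun z : Γ(qF q F, q ⁻¹ᵁ V) => sc B (q ⁻¹ᵁ V) b • z)
    (congr($((qF q F).presheaf.map_id (op (q ⁻¹ᵁ V))) (OmegaSh.pullSect q F V (x : Γ(F, V)))))

theorem pullExt_resL {V W : X.Opens} (h : W ≤ V) (z : B ⊗[A] sec A F V) :
    resL B (qF q F) (q.preimage_mono h) (pullExt A B hsq F V z) =
      pullExt A B hsq F W ((resL A F h).lTensor B z) := by
  induction z using TensorProduct.induction_on with
  | zero => simp only [map_zero]
  | add x y hx hy => simp only [map_add, hx, hy]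
  | tmul b x =>
    rw [LinearMap.lTensor_tmul]
    show (qF q F).presheaf.map (homOfLE (q.preimage_mono h)).op
        (pullExt A B hsq F V (b ⊗ₜ x) : Γ(qF q F, q ⁻¹ᵁ V)) = (pullExt A B hsq F W _ : Γ(qF q F, q ⁻¹ᵁ W))
    rw [pullExt_tmul, pullExt_tmul, Scheme.Modules.map_smul, LeadFF.map_scal]
    exact congrArg (fun z : Γ(qF q F, q ⁻¹ᵁ W) => sc B (q ⁻¹ᵁ W) b • z)
      (H11Tilde.pullSect_res q F h (x : Γ(F, V))).symm

variable {ι : Type u} (U : ι → X.Opens) (I : ∀ i, Ideal Γ(X, U i))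

/-- The sections over `U i` lying in `I i` times all sections. -/
def Ki (i : ι) : Submodule A (sec A F (U i)) where
  carrier := {m | (m : Γ(F, U i)) ∈ (I i • ⊤ : Submodule Γ(X, U i) Γ(F, U i))}
  add_mem' h h' := Submodule.add_mem (I i • ⊤ : Submodule Γ(X, U i) Γ(F, U i)) h h'
  zero_mem' := Submodule.zero_mem (I i • ⊤ : Submodule Γ(X, U i) Γ(F, U i))
  smul_mem' a m h := Submodule.smul_mem (I i • ⊤ : Submodule Γ(X, U i) Γ(F, U i)) (sc A (U i) a)
    (x := (m : Γ(F, U i))) h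

/-- The global sections lying in `I i` times all sections over each `U i`. -/
def glob : Set Γ(F, ⊤) :=
  {t | ∀ i, F.presheaf.map (homOfLE (le_top : U i ≤ ⊤)).op t ∈ I i • (⊤ : Submodule Γ(X, U i) Γ(F, U i))}

variable {U I}

theorem mem_Ki {i : ι} {m : sec A F (U i)} :
    m ∈ Ki A F U I i ↔ (m : Γ(F, U i)) ∈ (I i • ⊤ : Submodule Γ(X, U i) Γ(F, U i)) := Iff.rfl

/-- Multiplication by an element of the ideal lands in the extended submodule. -/
theorem exists_smul_pullExt {i : ι} {a : Γ(X, U i)} (ha : a ∈ I i) (t : B ⊗[A] sec A F (U i)) :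
    ∃ z : B ⊗[A] Ki A F U I i,
      (pullExt A B hsq F (U i) ((Ki A F U I i).subtype.lTensor B z) : Γ(qF q F, q ⁻¹ᵁ U i)) =
        (q.app (U i)).hom a • (pullExt A B hsq F (U i) t : Γ(qF q F, q ⁻¹ᵁ U i)) := by
  induction t using TensorProduct.induction_on with
  | zero =>
    refine ⟨0, ?_⟩
    simp only [map_zero]
    exact (smul_zero ((q.app (U i)).hom a)).symm
  | add t t' h h' =>
    obtain ⟨z, hz⟩ := h
    obtain ⟨z', hz'⟩ := h'
    refine ⟨z + z', ?_⟩
    simp only [map_add]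
    exact (congrArg₂ (· + ·) hz hz').trans (smul_add _ _ _).symm
  | tmul b m =>
    obtain ⟨m', rfl⟩ : ∃ m' : Γ(F, U i), (m' : sec A F (U i)) = m := ⟨m, rfl⟩
    let am : Γ(F, U i) := a • m'
    have ham : (am : sec A F (U i)) ∈ Ki A F U I i := mem_Ki A F |>.2 (show am ∈ (I i • ⊤ : Submodule Γ(X, U i) Γ(F, U i)) from Submodule.smul_mem_smul ha Submodule.mem_top)
    refine ⟨b ⊗ₜ ⟨am, ham⟩, ?_⟩
    rw [LinearMap.lTensor_tmul]
    refine (pullExt_tmul A B hsq F (U i) b _).trans ?_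
    refine Eq.trans ?_ (congrArg (fun z : Γ(qF q F, q ⁻¹ᵁ U i) => (q.app (U i)).hom a • z)
      (pullExt_tmul A B hsq F (U i) b m')).symm
    show sc B _ b • OmegaSh.pullSect q F (U i) (a • m') = _
    rw [OmegaSh.pullSect_smul]
    exact smul_comm (sc B (q ⁻¹ᵁ U i) b) ((q.app (U i)).hom a) _

theorem exists_mem_Ki {i : ι} (hU : IsAffineOpen (U i)) {v : Γ(qF q F, q ⁻¹ᵁ U i)}
    (hv : v ∈ Ideal.map (q.app (U i)).hom (I i) • (⊤ : Submodule Γ(X', q ⁻¹ᵁ U i) Γ(qF q F, q ⁻¹ᵁ U i))) :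
    ∃ z : B ⊗[A] Ki A F U I i, (pullExt A B hsq F (U i) ((Ki A F U I i).subtype.lTensor B z) : Γ(qF q F, q ⁻¹ᵁ U i)) = v := by
  refine Submodule.smul_induction_on hv (fun r hr w _ => ?_) (fun x y hx hy => ?_)
  swap
  · obtain ⟨zx, rfl⟩ := hx
    obtain ⟨zy, rfl⟩ := hy
    exact ⟨zx + zy, by simp only [map_add]; rfl⟩
  ·
    induction hr using Submodule.span_induction generalizing w with
    | zero => exact ⟨0, by simp only [map_zero]; exact (zero_smul Γ(X', q ⁻¹ᵁ U i) w).symm⟩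
    | add r r' _ _ hr hr' =>
      obtain ⟨z, hz⟩ := hr w trivial
      obtain ⟨z', hz'⟩ := hr' w trivial
      exact ⟨z + z', by
        simp only [map_add]
        exact (congrArg₂ (· + ·) hz hz').trans (add_smul r r' w).symm⟩
    | smul c r _ hr =>
      obtain ⟨z, hz⟩ := hr (c • w) trivial
      exact ⟨z, hz.trans (by rw [smul_smul, mul_comm r c]; rfl)⟩
    | mem r hr =>
      obtain ⟨a, ha, rfl⟩ := hr
      obtain ⟨t, ht⟩ := (bijective_pullExt A B hsq F hU).2 (w : sec B (qF q F) (q ⁻¹ᵁ U i))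
      obtain ⟨z, hz⟩ := exists_smul_pullExt A B hsq F ha t
      exact ⟨z, hz.trans (congrArg (fun z : Γ(qF q F, q ⁻¹ᵁ U i) => (q.app (U i)).hom a • z) ht)⟩

theorem eq_zero_of_prod {M N : Type u} [AddCommGroup M] [Module A M] [AddCommGroup N] [Module A N]
    (z : B ⊗[A] (M × N)) (h1 : (LinearMap.fst A M N).lTensor B z = 0) (h2 : (LinearMap.snd A M N).lTensor B z = 0) :
    z = 0 := by
  have hid : (LinearMap.inl A M N).comp (LinearMap.fst A M N) + (LinearMap.inr A M N).comp (LinearMap.snd A M N) =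
      LinearMap.id := LinearMap.ext fun x => by simp
  have := congrArg (fun l => l.lTensor B z) hid
  simp only [LinearMap.lTensor_add, LinearMap.add_apply, LinearMap.lTensor_comp_apply, h1, h2, map_zero,
    add_zero, LinearMap.lTensor_id] at this
  exact this.symm

theorem eq_zero_of_pi {κ : Type u} [Fintype κ] {M : κ → Type u} [∀ k, AddCommGroup (M k)] [∀ k, Module A (M k)]
    (z : B ⊗[A] (∀ k, M k)) (h : ∀ k, (LinearMap.proj (φ := M) k).lTensor B z = 0) : z = 0 := by
  classical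
  have hid : (∑ k, (LinearMap.single A M k).comp (LinearMap.proj (φ := M) k)) = LinearMap.id :=
    LinearMap.ext fun x => by
      simp only [LinearMap.sum_apply, LinearMap.comp_apply, LinearMap.proj_apply, LinearMap.id_apply]
      exact Finset.univ_sum_single x
  have h' : (∑ k, (LinearMap.single A M k).comp (LinearMap.proj (φ := M) k)).lTensor B z = z := by
    rw [hid, LinearMap.lTensor_id]; rfl
  rw [← LinearMap.coe_lTensorHom, map_sum, LinearMap.sum_apply] at h'
  refine h'.symm.trans (Finset.sum_eq_zero fun k _ => ?_)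
  rw [LinearMap.coe_lTensorHom, LinearMap.lTensor_comp_apply, h k, map_zero]

theorem lTensor_prod_pi {E : Type u} [AddCommGroup E] [Module A E] {κ μ : Type u} [Fintype κ] [Fintype μ]
    {M : κ → Type u} [∀ k, AddCommGroup (M k)] [∀ k, Module A (M k)]
    {N : μ → Type u} [∀ k, AddCommGroup (N k)] [∀ k, Module A (N k)]
    (f : ∀ k, E →ₗ[A] M k) (g : ∀ k, E →ₗ[A] N k) (σ : B ⊗[A] E) (hf : ∀ k, (f k).lTensor B σ = 0)
    (hg : ∀ k, (g k).lTensor B σ = 0) : ((LinearMap.pi f).prod (LinearMap.pi g)).lTensor B σ = 0 := by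
  refine eq_zero_of_prod A B _ (eq_zero_of_pi A B _ fun k => ?_) (eq_zero_of_pi A B _ fun k => ?_)
  · rw [← LinearMap.lTensor_comp_apply, ← LinearMap.lTensor_comp_apply]
    exact hf k
  · rw [← LinearMap.lTensor_comp_apply, ← LinearMap.lTensor_comp_apply]
    exact hg k

include hsq in
/-- A section over `X'` lying in `I i` times all sections over each `q⁻¹ U i` is a combination of pullbacks of
sections over `X` with the same property. -/
theorem mem_span_pullSect [Module.Flat A B] [QuasiSeparatedSpace X] [Finite ι] (hU : ∀ i, IsAffineOpen (U i))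
    (hcov : ∀ x, ∃ i, x ∈ U i) (v : Γ(qF q F, q ⁻¹ᵁ ⊤))
    (hv : ∀ i, (qF q F).presheaf.map (homOfLE (q.preimage_mono (le_top : U i ≤ ⊤))).op v ∈
      Ideal.map (q.app (U i)).hom (I i) • (⊤ : Submodule Γ(X', q ⁻¹ᵁ U i) Γ(qF q F, q ⁻¹ᵁ U i))) :
    v ∈ Submodule.span Γ(X', q ⁻¹ᵁ ⊤) ((fun t => OmegaSh.pullSect q F ⊤ t) '' glob F U I) := by
  classical
  cases nonempty_fintype ι
  haveI : QuasiSeparatedSpace X := inferInstance
  have hW : ∀ p : ι × ι, ∃ W : Finset X.affineOpens, (U p.1 ⊓ U p.2 : X.Opens) = ⨆ w ∈ W, (w : X.affineOpens).1 := by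
    intro p
    obtain ⟨s, hs, e⟩ := (isCompact_iff_finite_and_eq_biUnion_affineOpens).1
      (show IsCompact ((U p.1 ⊓ U p.2 : X.Opens) : Set X) from
        QuasiSeparatedSpace.inter_isCompact _ _ (U p.1).2 (hU p.1).isCompact (U p.2).2 (hU p.2).isCompact)
    refine ⟨hs.toFinset, Opens.ext ?_⟩
    rw [e]
    simp
  choose W hWe using hW
  let J := Σ p : ι × ι, {w : X.affineOpens // w ∈ W p}
  have hle : ∀ j : J, j.2.1.1 ≤ U j.1.1 ∧ j.2.1.1 ≤ U j.1.2 := fun j => by
    have := (le_iSup₂ (f := fun w (_ : w ∈ W j.1) => (w : X.affineOpens).1) j.2.1 j.2.2).trans (hWe j.1).ge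
    exact ⟨this.trans inf_le_left, this.trans inf_le_right⟩
  let E := ∀ i, sec A F (U i)
  let r : sec A F ⊤ →ₗ[A] E := LinearMap.pi fun i => resL A F le_top
  let D : E →ₗ[A] ∀ j : J, sec A F j.2.1.1 := LinearMap.pi fun j =>
    (resL A F (hle j).1).comp (LinearMap.proj j.1.1) - (resL A F (hle j).2).comp (LinearMap.proj j.1.2)
  let P : E →ₗ[A] ∀ i, sec A F (U i) ⧸ Ki A F U I i := LinearMap.pi fun i =>
    (Ki A F U I i).mkQ.comp (LinearMap.proj i)
  let K : Submodule A (sec A F ⊤) := ⨅ i, (Ki A F U I i).comap (resL A F le_top)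
  have hK : ∀ {t : sec A F ⊤}, t ∈ K ↔ (t : Γ(F, ⊤)) ∈ glob F U I := fun {t} => Submodule.mem_iInf _
  have hex : Function.Exact (r.comp K.subtype) (D.prod P) := by
    intro e
    constructor
    · intro he
      have hD : ∀ j, resL A F (hle j).1 (e j.1.1) = resL A F (hle j).2 (e j.1.2) := fun j =>
        sub_eq_zero.1 (congrFun (congrArg Prod.fst he) j)
      have hP : ∀ i, e i ∈ Ki A F U I i := fun i =>
        (Submodule.Quotient.mk_eq_zero _).1 (congrFun (congrArg Prod.snd he) i)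
      obtain ⟨t, ht, -⟩ := TopCat.Sheaf.existsUnique_gluing' ⟨F.presheaf, F.isSheaf⟩ U ⊤
        (fun i => homOfLE le_top) (fun x _ => Opens.mem_iSup.2 (hcov x)) (fun i => (e i : Γ(F, U i))) fun i k => by
          refine H11Tilde.eq_of_locally _ _ fun x hx => ?_
          obtain ⟨w, hw⟩ : ∃ w, w ∈ W (i, k) ∧ x ∈ (w : X.affineOpens).1 := by
            have h2 : x ∈ ⨆ w ∈ W (i, k), (w : X.affineOpens).1 := hWe (i, k) ▸ hx
            simp only [Opens.mem_iSup] at h2
            obtain ⟨w, hw, hxw⟩ := h2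
            exact ⟨w, hw, hxw⟩
          refine ⟨w.1, le_inf (hle ⟨(i, k), w, hw.1⟩).1 (hle ⟨(i, k), w, hw.1⟩).2, hw.2, ?_⟩
          erw [H10Coh.mres_mres, H10Coh.mres_mres]
          exact hD ⟨(i, k), w, hw.1⟩
      exact ⟨⟨t, hK.2 fun i => (congrArg (· ∈ (I i • ⊤ : Submodule Γ(X, U i) Γ(F, U i))) (ht i)).mpr (hP i)⟩,
        funext fun i => ht i⟩
    · rintro ⟨t, rfl⟩
      refine Prod.ext (funext fun j => ?_) (funext fun i => ?_)
      · show resL A F (hle j).1 (resL A F le_top t.1) - resL A F (hle j).2 (resL A F le_top t.1) = 0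
        rw [sub_eq_zero]
        show F.presheaf.map _ (F.presheaf.map _ _) = F.presheaf.map _ (F.presheaf.map _ _)
        rw [H10Coh.mres_mres, H10Coh.mres_mres]
      · exact (Submodule.Quotient.mk_eq_zero _).2 ((Submodule.mem_iInf _).1 t.2 i)
  choose τ hτ using fun i => exists_mem_Ki A B hsq F (hU i) (hv i)
  let σ : B ⊗[A] E := ∑ i, (LinearMap.single A (fun i => (sec A F (U i) : Type u)) i).lTensor B
    ((Ki A F U I i).subtype.lTensor B (τ i))
  have hproj : ∀ i, (LinearMap.proj (φ := fun i => (sec A F (U i) : Type u)) i).lTensor B σ =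
      (Ki A F U I i).subtype.lTensor B (τ i) := fun i => by
    rw [map_sum, Finset.sum_eq_single i]
    · rw [← LinearMap.lTensor_comp_apply, LinearMap.proj_comp_single_same, LinearMap.lTensor_id]
      rfl
    · intro k _ hk
      rw [← LinearMap.lTensor_comp_apply, LinearMap.proj_comp_single_ne _ _ _ _ hk.symm, LinearMap.lTensor_zero]
      rfl
    · intro h; exact absurd (Finset.mem_univ i) h
  clear_value σ
  have h0 : (D.prod P).lTensor B σ = 0 := by
    refine lTensor_prod_pi A B (E := E) _ _ σ (fun j => ?_) (fun i => ?_)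
    · rw [LinearMap.lTensor_sub, LinearMap.sub_apply, sub_eq_zero, LinearMap.lTensor_comp_apply,
        LinearMap.lTensor_comp_apply, hproj, hproj]
      apply (bijective_pullExt A B hsq F j.2.1.2).1
      rw [← pullExt_resL, ← pullExt_resL]
      show (qF q F).presheaf.map _ (pullExt A B hsq F _ _ : Γ(qF q F, q ⁻¹ᵁ U j.1.1)) =
        (qF q F).presheaf.map _ (pullExt A B hsq F _ _ : Γ(qF q F, q ⁻¹ᵁ U j.1.2))
      rw [hτ, hτ, H10Coh.mres_mres, H10Coh.mres_mres]
    · rw [LinearMap.lTensor_comp_apply, hproj, ← LinearMap.lTensor_comp_apply]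
      have hz : (Ki A F U I i).mkQ.comp (Ki A F U I i).subtype = 0 :=
        LinearMap.ext fun m => (Submodule.Quotient.mk_eq_zero _).2 m.2
      rw [hz, LinearMap.lTensor_zero]
      rfl
  obtain ⟨z, hz⟩ := (Module.Flat.lTensor_exact B hex σ).1 h0
  have heq : ∀ i, resL B (qF q F) (q.preimage_mono (le_top : U i ≤ ⊤))
      (pullExt A B hsq F ⊤ (K.subtype.lTensor B z)) = (v |> fun v => ((qF q F).presheaf.map
        (homOfLE (q.preimage_mono (le_top : U i ≤ ⊤))).op v : Γ(qF q F, q ⁻¹ᵁ U i))) := fun i => by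
    rw [pullExt_resL]
    refine Eq.trans ?_ (hτ i)
    rw [← hproj, ← hz, ← LinearMap.lTensor_comp_apply, ← LinearMap.lTensor_comp_apply]
    rfl
  have hvz : v = (pullExt A B hsq F ⊤ (K.subtype.lTensor B z) : Γ(qF q F, q ⁻¹ᵁ ⊤)) := by
    refine H11Tilde.eq_of_locally _ _ fun x _ => ?_
    obtain ⟨i, hi⟩ := hcov (q x)
    exact ⟨q ⁻¹ᵁ U i, q.preimage_mono le_top, hi, (heq i).symm⟩
  rw [hvz]
  clear hz hvz heq
  induction z using TensorProduct.induction_on with
  | zero => simp only [map_zero]; exact Submodule.zero_mem _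
  | add x y hx hy => simp only [map_add]; exact Submodule.add_mem _ hx hy
  | tmul b t =>
    rw [LinearMap.lTensor_tmul, pullExt_tmul]
    exact Submodule.smul_mem _ _ (Submodule.subset_span ⟨_, hK.1 t.2, rfl⟩)

end Groth.Agent.LeadAmpDesc
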